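import Groth.Agent.Lib.AbAff14.Core
import Mathlib.CategoryTheory.Abelian.Basic
import Mathlib.CategoryTheory.Monoidal.CommGrp_
import Mathlib.CategoryTheory.Monoidal.Cartesian.CommGrp_
import Mathlib.CategoryTheory.Limits.Constructions.FiniteProductsOfBinaryProducts

/-!
# Commutative affine algebraic groups form an abelian category
-/

universe u

open CategoryTheory MonoidalCategory CartesianMonoidalCategory MonObj GrpObj AlgebraicGeometry
open CategoryTheory.Limits

noncomputable section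

namespace GrothLib.AbAff14

variable {k : Type u} [Field k]

local notation "𝒞" => Over (Spec (CommRingCat.of k))

/-- The category of commutative affine algebraic groups. -/
abbrev AffGrp (k : Type u) [Field k] :=
  ObjectProperty.FullSubcategory (fun G : CommGrp (Over (Spec (CommRingCat.of k))) =>
    LocallyOfFiniteType G.X.hom ∧ QuasiCompact G.X.hom ∧ IsAffine G.X.left)

/-- Homomorphisms between commutative groups form a commutative group. -/
def addCommGroupHom (A B : CommGrp 𝒞) : AddCommGroup (A ⟶ B) :=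
  (InducedCategory.homEquiv.trans Additive.ofMul).addCommGroup

instance preadditiveCommGrp : Preadditive (CommGrp 𝒞) where
  homGroup A B := addCommGroupHom A B
  add_comp A B C f f' g := by
    apply CommGrp.hom_ext
    exact MonObj.mul_comp f.hom.hom.hom f'.hom.hom.hom g.hom.hom.hom
  comp_add A B C f g g' := by
    apply CommGrp.hom_ext
    exact MonObj.comp_mul f.hom.hom.hom g.hom.hom.hom g'.hom.hom.hom

namespace AffGrp

/-- The underlying morphism. -/
abbrev u {A B : AffGrp k} (f : A ⟶ B) : A.obj.X ⟶ B.obj.X := f.hom.hom.hom.hom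

instance isMonHom_u {A B : AffGrp k} (f : A ⟶ B) : IsMonHom (u f) := f.hom.hom.hom.isMonHom_hom

theorem ext {A B : AffGrp k} {f g : A ⟶ B} (h : u f = u g) : f = g :=
  InducedCategory.hom_ext (CommGrp.hom_ext _ _ h)

theorem u_comp {A B C : AffGrp k} (f : A ⟶ B) (g : B ⟶ C) : u (f ≫ g) = u f ≫ u g := rfl

theorem u_zero {A B : AffGrp k} : u (0 : A ⟶ B) = 1 := rfl

theorem eq_zero_iff {A B : AffGrp k} (f : A ⟶ B) : f = 0 ↔ u f = 1 :=
  ⟨fun h => h ▸ u_zero, fun h => ext (h.trans u_zero.symm)⟩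

/-- An object from a group. -/
abbrev mk' (X : 𝒞) [GrpObj X] [IsCommMonObj X] (h : Good X) : AffGrp k := ⟨⟨X⟩, h⟩

/-- A morphism from a homomorphism. -/
def homMk {A B : AffGrp k} (f : A.obj.X ⟶ B.obj.X) [IsMonHom f] : A ⟶ B :=
  ObjectProperty.homMk (InducedCategory.homMk (Grp.homMk f))

theorem u_homMk {A B : AffGrp k} (f : A.obj.X ⟶ B.obj.X) [IsMonHom f] : u (homMk f) = f := rfl

instance : HasTerminal (AffGrp k) := by
  haveI : IsAffine (𝟙_ 𝒞).left := inferInstanceAs (IsAffine (Spec (CommRingCat.of k)))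
  haveI : LocallyOfFiniteType (𝟙_ 𝒞).hom := inferInstanceAs (LocallyOfFiniteType (𝟙 _))
  let O : AffGrp k := mk' (𝟙_ 𝒞) (good_of_affine _)
  exact IsTerminal.hasTerminal (X := O) (IsTerminal.ofUniqueHom (fun _ => 0)
    (fun A m => ext (toUnit_unique _ _)))

instance : HasBinaryProducts (AffGrp k) := by
  haveI : ∀ {A B : AffGrp k}, HasLimit (pair A B) := by
    intro A B
    let P : AffGrp k := mk' (A.obj.X ⊗ B.obj.X) (Good.tensor A.property B.property)
    let p₁ : P ⟶ A := homMk (fst A.obj.X B.obj.X)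
    let p₂ : P ⟶ B := homMk (snd A.obj.X B.obj.X)
    refine ⟨⟨⟨BinaryFan.mk p₁ p₂, BinaryFan.isLimitMk
      (fun s => ?_) (fun s => ?_) (fun s => ?_) (fun s m h₁ h₂ => ?_)⟩⟩⟩
    · haveI : IsMonHom (lift (u s.fst) (u s.snd)) := inferInstance
      exact homMk (lift (u s.fst) (u s.snd))
    · exact ext (lift_fst _ _)
    · exact ext (lift_snd _ _)
    · refine ext (CartesianMonoidalCategory.hom_ext _ _ ?_ ?_)
      · exact ((congrArg u h₁)).trans (lift_fst _ _).symm
      · exact ((congrArg u h₂)).trans (lift_snd _ _).symm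
  exact hasBinaryProducts_of_hasLimit_pair _

instance : HasFiniteProducts (AffGrp k) := hasFiniteProducts_of_has_binary_and_terminal

instance : HasKernels (AffGrp k) := ⟨fun {A B} f => by
  obtain ⟨K, _, _, i, hi, hcl, hK, hmem⟩ := exists_ker A.property B.property (u f)
  haveI := hi
  haveI := hcl
  haveI : Mono i := Over.mono_of_mono_left i
  let ι' : mk' K hK ⟶ A := homMk i
  have w : ι' ≫ f = 0 := (eq_zero_iff _).2 ((hmem K i).1 ⟨𝟙 K, Category.id_comp i⟩)
  haveI : Mono ι' := ⟨fun a b hab => ext ((cancel_mono i).1 (congrArg u hab))⟩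
  refine ⟨⟨⟨KernelFork.ofι ι' w, KernelFork.IsLimit.ofι' ι' w fun {W'} g hg => ?_⟩⟩⟩
  · have hy := (hmem W'.obj.X (u g)).2 ((eq_zero_iff _).1 hg)
    haveI : IsMonHom (hy.choose ≫ i) := by rw [hy.choose_spec]; infer_instance
    haveI : IsMonHom hy.choose := GrothLib.DiagGrp.isMonHom_of_comp_mono hy.choose i
    exact ⟨homMk hy.choose, ext hy.choose_spec⟩⟩

/-- A quotient map with prescribed kernel is a cokernel. -/
def isCokernelOfQuot {W A C : AffGrp k} (g : W ⟶ A) (c : A ⟶ C) (w : g ≫ c = 0) [Flat (u c).left]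
    [Surjective (u c).left] [LocallyOfFinitePresentation (u c).left]
    (h : ∀ {D : AffGrp k} (d : A ⟶ D), g ≫ d = 0 →
      ∀ (T : 𝒞) (x : T ⟶ A.obj.X), x ≫ u c = 1 → x ≫ u d = 1) :
    IsColimit (CokernelCofork.ofπ c w) := by
  haveI : Epi (u c) := GrothLib.QuotTorus14.epi_of_flat_surjective (u c)
  refine CokernelCofork.IsColimit.ofπ c w
    (fun {D} d hd => ?_) (fun {D} d hd => ?_) (fun {D} d hd m hm => ?_)
  · haveI := (exists_desc_hom (u c) (u d) (h d hd)).choose_spec.1
    exact homMk (exists_desc_hom (u c) (u d) (h d hd)).choose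
  · exact ext (exists_desc_hom (u c) (u d) (h d hd)).choose_spec.2
  · refine ext ((cancel_epi (u c)).1 ?_)
    rw [← u_comp, hm]
    exact (exists_desc_hom (u c) (u d) (h d hd)).choose_spec.2.symm

/-- Morphisms killed by `f` kill its image. -/
theorem exists_cokernel_data {A B : AffGrp k} (f : A ⟶ B) :
    ∃ (I : 𝒞) (_ : GrpObj I) (j : I ⟶ B.obj.X) (q : A.obj.X ⟶ I) (C : AffGrp k) (c : B ⟶ C),
      IsMonHom j ∧ IsClosedImmersion j.left ∧ Flat q.left ∧ Surjective q.left ∧
      LocallyOfFinitePresentation q.left ∧ q ≫ j = u f ∧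
      Flat (u c).left ∧ Surjective (u c).left ∧ LocallyOfFinitePresentation (u c).left ∧ f ≫ c = 0 ∧
      (∀ (T : 𝒞) (x : T ⟶ B.obj.X), (∃ y, y ≫ j = x) ↔ x ≫ u c = 1) := by
  obtain ⟨I, gI, cI, q, j, hq, hj, hI, hfl, hs, hlfp, hcl, hqj⟩ := exists_image A.property B.property (u f)
  haveI := hj
  haveI := hcl
  obtain ⟨C, gC, cC, c, hc, hC, hcfl, hcs, hclfp, hmem⟩ := exists_quot B.property j
  haveI := hc
  let c' : B ⟶ mk' C hC := homMk c
  refine ⟨I, gI, j, q, mk' C hC, c', hj, hcl, hfl, hs, hlfp, hqj, hcfl, hcs, hclfp, (eq_zero_iff _).2 ?_, hmem⟩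
  exact (hmem _ (u f)).1 ⟨q, hqj⟩

theorem kills_of_kills {A B D : AffGrp k} {I : 𝒞} (f : A ⟶ B) (q : A.obj.X ⟶ I) [Flat q.left] [Surjective q.left]
    (j : I ⟶ B.obj.X) (hqj : q ≫ j = u f) (d : B ⟶ D) (hd : f ≫ d = 0) : j ≫ u d = 1 := by
  haveI := GrothLib.QuotTorus14.epi_of_flat_surjective q
  rw [← cancel_epi q, ← Category.assoc, hqj, MonObj.comp_one, ← u_comp]
  exact (eq_zero_iff _).1 hd

instance : HasCokernels (AffGrp k) := ⟨fun {A B} f => by
  obtain ⟨I, _, j, q, C, c, hj, hcl, hfl, hs, hlfp, hqj, hcfl, hcs, hclfp, w, hmem⟩ := exists_cokernel_data f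
  exact ⟨⟨⟨CokernelCofork.ofπ c w, isCokernelOfQuot f c w fun {D} d hd T x hx => by
    obtain ⟨y, rfl⟩ := (hmem T x).2 hx
    rw [Category.assoc, kills_of_kills f q j hqj d hd, MonObj.comp_one]⟩⟩⟩⟩

theorem mono_u {A B : AffGrp k} (f : A ⟶ B) [Mono f] : Mono (u f) := by
  refine mono_of_trivial_kernel (u f) fun T x hx => ?_
  obtain ⟨K, _, _, i, hi, -, hK, hmem⟩ := exists_ker A.property B.property (u f)
  haveI := hi
  have h : (homMk i : mk' K hK ⟶ A) = 0 := by
    rw [← cancel_mono f, zero_comp, eq_zero_iff]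
    exact (hmem K i).1 ⟨𝟙 K, Category.id_comp i⟩
  obtain ⟨y, rfl⟩ := (hmem T x).2 hx
  have hi1 : i = 1 := (eq_zero_iff _).1 h
  rw [hi1, MonObj.comp_one]

instance : IsNormalMonoCategory (AffGrp k) where
  normalMonoOfMono {A B} f _ := by
    haveI := mono_u f
    haveI : IsClosedImmersion (u f).left := by
      obtain ⟨_, _, _⟩ := A.property
      obtain ⟨_, _, _⟩ := B.property
      haveI : IsAffineHom (u f).left := isAffineHom_of_isAffine _
      exact GrothLib.AffMono14.isClosedImmersion_of_mono (u f)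
    obtain ⟨C, _, _, c, hc, hC, hcfl, hcs, hclfp, hmem⟩ := exists_quot B.property (u f)
    haveI := hc
    let c' : B ⟶ mk' C hC := homMk c
    have w : f ≫ c' = 0 := (eq_zero_iff _).2 ((hmem _ (u f)).1 ⟨𝟙 _, Category.id_comp _⟩)
    refine ⟨⟨mk' C hC, c', w, KernelFork.IsLimit.ofι' f w fun {W'} g hg => ?_⟩⟩
    have hy := (hmem W'.obj.X (u g)).2 ((eq_zero_iff _).1 hg)
    haveI : IsMonHom (hy.choose ≫ u f) := by rw [hy.choose_spec]; infer_instance
    haveI : IsMonHom hy.choose := GrothLib.DiagGrp.isMonHom_of_comp_mono hy.choose (u f)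
    exact ⟨homMk hy.choose, ext hy.choose_spec⟩

theorem quot_of_epi {A B : AffGrp k} (f : A ⟶ B) [Epi f] :
    Flat (u f).left ∧ Surjective (u f).left ∧ LocallyOfFinitePresentation (u f).left := by
  obtain ⟨I, _, j, q, C, c, hj, hcl, hfl, hs, hlfp, hqj, -, -, -, w, hmem⟩ := exists_cokernel_data f
  have hc : u c = 1 := (eq_zero_iff _).1 (by rwa [← cancel_epi f, comp_zero])
  obtain ⟨y, hy⟩ := (hmem _ (𝟙 B.obj.X)).2 (by rw [hc, MonObj.comp_one])
  haveI : Mono j := Over.mono_of_mono_left j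
  haveI : IsSplitEpi j := ⟨⟨⟨y, hy⟩⟩⟩
  haveI : IsIso j := isIso_of_mono_of_isSplitEpi j
  haveI : IsIso j.left := inferInstanceAs (IsIso ((Over.forget _).map j))
  rw [← hqj, Over.comp_left]
  exact ⟨inferInstance, inferInstance, inferInstance⟩

instance : IsNormalEpiCategory (AffGrp k) where
  normalEpiOfEpi {A B} f _ := by
    obtain ⟨_, _, _⟩ := quot_of_epi f
    obtain ⟨K, _, _, i, hi, -, hK, hmem⟩ := exists_ker A.property B.property (u f)
    haveI := hi
    let ι' : mk' K hK ⟶ A := homMk i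
    have w : ι' ≫ f = 0 := (eq_zero_iff _).2 ((hmem K i).1 ⟨𝟙 K, Category.id_comp i⟩)
    exact ⟨⟨mk' K hK, ι', w, isCokernelOfQuot ι' f w fun {D} d hd T x hx => by
      obtain ⟨y, rfl⟩ := (hmem T x).2 hx
      rw [Category.assoc, show i ≫ u d = 1 from (eq_zero_iff _).1 hd, MonObj.comp_one]⟩⟩

theorem nonempty_abelian : Nonempty (Abelian (AffGrp k)) := ⟨{}⟩

end AffGrp

end GrothLib.AbAff14
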