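import Groth.Agent.S3278
import Groth.Agent.Lib.AffMono14.Basic
import Groth.Agent.Lib.EssFree.Subgroup
import Groth.Agent.Lib.QuotTorus14.Basic
import Groth.Agent.Lib.DiagGrp.KernelFP
import Groth.Agent.Lib.Induce27.QuotAffine

/-!
# Kernels, images and cokernels of homomorphisms of commutative affine algebraic groups
-/

universe u

open CategoryTheory MonoidalCategory CartesianMonoidalCategory MonObj GrpObj AlgebraicGeometry
open CategoryTheory.Limits

namespace GrothLib.AbAff14

variable {k : Type u} [Field k]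

/-- Affine and of finite type. -/
def Good (X : Over (Spec (CommRingCat.of k))) : Prop :=
  LocallyOfFiniteType X.hom ∧ QuasiCompact X.hom ∧ IsAffine X.left

theorem good_of_affine (X : Over (Spec (CommRingCat.of k))) [IsAffine X.left] [LocallyOfFiniteType X.hom] :
    Good X := by
  haveI : IsAffineHom X.hom := isAffineHom_of_isAffine _
  exact ⟨‹_›, inferInstance, ‹_›⟩

theorem Good.tensor {A B : Over (Spec (CommRingCat.of k))} (hA : Good A) (hB : Good B) : Good (A ⊗ B) := by
  obtain ⟨_, _, _⟩ := hA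
  obtain ⟨_, _, _⟩ := hB
  haveI : IsAffineHom B.hom := isAffineHom_of_isAffine _
  haveI : IsAffineHom (pullback.fst A.hom B.hom) := MorphismProperty.pullback_fst _ _ ‹IsAffineHom B.hom›
  haveI : IsAffine (A ⊗ B).left := isAffine_of_isAffineHom (pullback.fst A.hom B.hom)
  haveI : LocallyOfFiniteType (A ⊗ B).hom :=
    inferInstanceAs (LocallyOfFiniteType (pullback.fst A.hom B.hom ≫ A.hom))
  exact good_of_affine _

theorem isCommMonObj_of_mono {A N : Over (Spec (CommRingCat.of k))} [GrpObj A] [GrpObj N] [IsCommMonObj A]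
    (i : N ⟶ A) [IsMonHom i] [Mono i] : IsCommMonObj N := by
  rw [isCommMonObj_iff_isMulCommutative]
  exact fun X => ⟨⟨fun a b => by rw [← cancel_mono i, MonObj.mul_comp, MonObj.mul_comp, _root_.mul_comm]⟩⟩

theorem isCommMonObj_of_epi {A Q : Over (Spec (CommRingCat.of k))} [GrpObj A] [GrpObj Q] [IsCommMonObj A]
    (q : A ⟶ Q) [IsMonHom q] [Flat q.left] [Surjective q.left] : IsCommMonObj Q := by
  rw [isCommMonObj_iff_isMulCommutative]
  intro X
  refine ⟨⟨fun a b => ?_⟩⟩
  have h : fst Q Q * snd Q Q = snd Q Q * fst Q Q := by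
    obtain ⟨_, _⟩ := GrothLib.QuotTorus14.whiskerRight_flat_surjective q A
    obtain ⟨_, _⟩ := GrothLib.QuotTorus14.whiskerLeft_flat_surjective q Q
    haveI : Flat (q ⊗ₘ q).left := by rw [MonoidalCategory.tensorHom_def, Over.comp_left]; infer_instance
    haveI : Surjective (q ⊗ₘ q).left := by rw [MonoidalCategory.tensorHom_def, Over.comp_left]; infer_instance
    haveI := GrothLib.QuotTorus14.epi_of_flat_surjective (q ⊗ₘ q)
    rw [← cancel_epi (q ⊗ₘ q), MonObj.comp_mul, MonObj.comp_mul, tensorHom_fst, tensorHom_snd,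
      ← MonObj.mul_comp, ← MonObj.mul_comp, _root_.mul_comm]
  have h' := congrArg (lift a b ≫ ·) h
  simpa [MonObj.comp_mul] using h'

theorem lfp_left {A B : Over (Spec (CommRingCat.of k))} [LocallyOfFiniteType A.hom] [LocallyOfFiniteType B.hom]
    (f : A ⟶ B) : LocallyOfFinitePresentation f.left :=
  haveI : IsNoetherianRing (CommRingCat.of k) := inferInstanceAs (IsNoetherianRing k)
  haveI : LocallyOfFinitePresentation (f.left ≫ B.hom) := by
    rw [Over.w]; infer_instance
  GrothLib.DiagGrp.lfp_of_comp_of_lft _ B.hom ‹_› ‹_›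

variable {A B : Over (Spec (CommRingCat.of k))} [GrpObj A] [GrpObj B]

/-- The kernel. -/
theorem exists_ker [IsCommMonObj A] (hA : Good A) (hB : Good B) (f : A ⟶ B) [IsMonHom f] :
    ∃ (K : Over (Spec (CommRingCat.of k))) (_ : GrpObj K) (_ : IsCommMonObj K) (i : K ⟶ A), IsMonHom i ∧
      IsClosedImmersion i.left ∧ Good K ∧
      ∀ (T : Over (Spec (CommRingCat.of k))) (x : T ⟶ A), (∃ y, y ≫ i = x) ↔ x ≫ f = 1 := by
  obtain ⟨_, _, _⟩ := hA
  obtain ⟨_, _, _⟩ := hB
  haveI : IsAffineHom B.hom := isAffineHom_of_isAffine _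
  haveI := GrothLib.DiagGrp.isClosedImmersion_one B
  let K := pullback f η[B]
  let i : K ⟶ A := pullback.fst f η[B]
  have sq : IsPullback i.left (pullback.snd f η[B]).left f.left η[B].left :=
    (IsPullback.of_hasPullback f η[B]).map (Over.forget _)
  haveI : IsClosedImmersion i.left := MorphismProperty.of_isPullback sq.flip ‹IsClosedImmersion η[B].left›
  haveI : Mono i := Over.mono_of_mono_left i
  have hmem : ∀ (T : Over (Spec (CommRingCat.of k))) (x : T ⟶ A), (∃ y, y ≫ i = x) ↔ x ≫ f = 1 := by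
    intro T x
    rw [Hom.one_def]
    refine ⟨?_, fun h => ⟨pullback.lift x (toUnit T) h, pullback.lift_fst _ _ _⟩⟩
    rintro ⟨t, rfl⟩
    rw [Category.assoc, pullback.condition, ← Category.assoc]
    exact congrArg (· ≫ η[B]) (toUnit_unique _ _)
  obtain ⟨gK, hmi⟩ := GrothLib.EssFree.exists_grpObj_of_mono i
    (fun T => (hmem T 1).2 (by simp only [MonObj.one_comp]))
    (fun T a b => (hmem T _).2 (by
      rw [MonObj.mul_comp, (hmem T _).1 ⟨a, rfl⟩, (hmem T _).1 ⟨b, rfl⟩, _root_.one_mul]))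
    (fun T a => (hmem T _).2 (by rw [GrpObj.inv_comp, (hmem T _).1 ⟨a, rfl⟩, inv_one]))
  haveI := hmi
  haveI : IsAffine K.left := isAffine_of_isAffineHom i.left
  haveI : LocallyOfFiniteType K.hom := by
    rw [← Over.w i]; infer_instance
  exact ⟨K, gK, isCommMonObj_of_mono i, i, hmi, inferInstance, good_of_affine K, hmem⟩

theorem mono_of_trivial_kernel (f : A ⟶ B) [IsMonHom f]
    (h : ∀ (T : Over (Spec (CommRingCat.of k))) (x : T ⟶ A), x ≫ f = 1 → x = 1) : Mono f := by
  refine ⟨fun {T} x y hxy => ?_⟩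
  have := h T (x * y⁻¹) (by rw [MonObj.mul_comp, GrpObj.inv_comp, hxy, mul_inv_cancel])
  rwa [mul_inv_eq_one] at this

/-- The quotient by a closed subgroup. -/
theorem exists_quot [IsCommMonObj A] (hA : Good A) {N : Over (Spec (CommRingCat.of k))} [GrpObj N]
    (i : N ⟶ A) [IsMonHom i] [IsClosedImmersion i.left] :
    ∃ (Q : Over (Spec (CommRingCat.of k))) (_ : GrpObj Q) (_ : IsCommMonObj Q) (q : A ⟶ Q), IsMonHom q ∧ Good Q ∧
      Flat q.left ∧ Surjective q.left ∧ LocallyOfFinitePresentation q.left ∧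
      ∀ (T : Over (Spec (CommRingCat.of k))) (x : T ⟶ A), (∃ y, y ≫ i = x) ↔ x ≫ q = 1 := by
  obtain ⟨_, _, _⟩ := hA
  obtain ⟨Q, gQ, q, hq, hQa, hQlft, hfl, hs, hk⟩ := Groth.Agent.S3278.result k A N i
    (fun T g n => ⟨n, by rw [mul_inv_eq_iff_eq_mul, _root_.mul_comm]⟩)
  haveI := hq
  haveI := hfl
  haveI := hs
  haveI := hQlft
  haveI := hQa
  refine ⟨Q, gQ, isCommMonObj_of_epi q, q, hq, good_of_affine Q, hfl, hs, lfp_left q, fun T x => ?_⟩
  rw [Hom.one_def]
  refine ⟨?_, fun h => ⟨hk.lift x (toUnit T) h, hk.lift_fst _ _ _⟩⟩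
  rintro ⟨y, rfl⟩
  rw [Category.assoc, hk.w, ← Category.assoc]
  exact congrArg (· ≫ η[Q]) (toUnit_unique _ _)

/-- Descent of a homomorphism along a quotient map. -/
theorem exists_desc_hom {Q D : Over (Spec (CommRingCat.of k))} [GrpObj Q] [GrpObj D]
    (q : A ⟶ Q) [IsMonHom q] [Flat q.left] [Surjective q.left] [LocallyOfFinitePresentation q.left]
    (d : A ⟶ D) [IsMonHom d] (h : ∀ (T : Over (Spec (CommRingCat.of k))) (x : T ⟶ A), x ≫ q = 1 → x ≫ d = 1) :
    ∃ e : Q ⟶ D, IsMonHom e ∧ q ≫ e = d := by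
  obtain ⟨e, he⟩ := GrothLib.QuotTorus14.exists_desc q d fun C _ p a a' haa => by
    have h0 := h _ (a⁻¹ * a') (by rw [MonObj.mul_comp, GrpObj.inv_comp, haa, inv_mul_cancel])
    rwa [MonObj.mul_comp, GrpObj.inv_comp, inv_mul_eq_one] at h0
  haveI : IsMonHom (q ≫ e) := by rw [he]; infer_instance
  exact ⟨e, GrothLib.QuotTorus14.isMonHom_desc q e, he⟩

/-- Factorisation of a homomorphism as a quotient map followed by a closed immersion. -/
theorem exists_image [IsCommMonObj A] (hA : Good A) (hB : Good B) (f : A ⟶ B) [IsMonHom f] :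
    ∃ (Q : Over (Spec (CommRingCat.of k))) (_ : GrpObj Q) (_ : IsCommMonObj Q) (q : A ⟶ Q) (j : Q ⟶ B),
      IsMonHom q ∧ IsMonHom j ∧ Good Q ∧ Flat q.left ∧ Surjective q.left ∧ LocallyOfFinitePresentation q.left ∧
      IsClosedImmersion j.left ∧ q ≫ j = f := by
  obtain ⟨K, gK, cK, i, hi, hicl, hKg, hK⟩ := exists_ker hA hB f
  haveI := hi
  haveI := hicl
  obtain ⟨Q, gQ, cQ, q, hq, hQ, hfl, hs, hlfp, hQk⟩ := exists_quot hA i
  haveI := hq
  haveI := hfl
  haveI := hs
  haveI := hlfp
  obtain ⟨j, hj, hqj⟩ := exists_desc_hom q f fun T x hx => (hK T x).1 ((hQk T x).2 hx)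
  haveI := hj
  haveI : Mono j := by
    refine mono_of_trivial_kernel j fun T x hx => ?_
    -- lift the point locally along the quotient map
    let T' := pullback x q
    have sq : IsPullback (pullback.fst x q).left (pullback.snd x q).left x.left q.left :=
      (IsPullback.of_hasPullback x q).map (Over.forget _)
    haveI : Flat (pullback.fst x q).left := MorphismProperty.of_isPullback sq.flip hfl
    haveI : Surjective (pullback.fst x q).left := MorphismProperty.of_isPullback sq.flip hs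
    haveI := GrothLib.QuotTorus14.epi_of_flat_surjective (pullback.fst x q)
    rw [← cancel_epi (pullback.fst x q), MonObj.comp_one, pullback.condition]
    refine (hQk _ _).1 ((hK _ _).2 ?_)
    rw [← hqj, ← Category.assoc, ← pullback.condition, Category.assoc, hx, MonObj.comp_one]
  obtain ⟨_, _, _⟩ := hQ
  obtain ⟨_, _, _⟩ := hB
  haveI : IsAffineHom j.left := isAffineHom_of_isAffine _
  exact ⟨Q, gQ, cQ, q, j, hq, hj, good_of_affine Q, hfl, hs, hlfp,
    GrothLib.AffMono14.isClosedImmersion_of_mono j, hqj⟩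

end GrothLib.AbAff14
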